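import Mathlib
import Groth.Agent.Lib.Helper24.FibreDim.Main4944
import Groth.Agent.Lib.Helper24.OpenAt.Core

/-!
# Dimensions of local rings of reduced closed subschemes (helper24)

Tools for comparing the local rings of an irreducible closed subset `X' ⊆ X` (with its reduced
structure) and of the closure `Y'` of its image with those of `X`, `Y`.
-/

set_option autoImplicit false
set_option linter.style.haveILetI false
universe u
open scoped Cardinal
open AlgebraicGeometry CategoryTheory TopologicalSpace Topology
open Groth.Agent.Lib.Helper7 Groth.Agent.Lib.lead Groth.Agent.Lib.Helper18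
open Groth.Agent.Lib.Helper24.FibreDim

namespace Groth.Agent.Lib.Helper24.SubDim

variable {X Y : Scheme.{u}}

/-- A morphism which is a topological embedding is strictly monotone for the specialization
order. -/
theorem strictMono_of_isEmbedding {Z W : Scheme.{u}} (ι : Z ⟶ W) (h : IsEmbedding ι) :
    StrictMono ι := by
  have key : ∀ a b : Z, ι a ≤ ι b ↔ a ≤ b := by
    intro a b
    rw [Scheme.le_iff_specializes, Scheme.le_iff_specializes]
    exact h.isInducing.specializes_iff
  intro a b hab
  rw [lt_iff_le_not_ge] at hab ⊢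
  exact ⟨(key a b).mpr hab.1, fun h' => hab.2 ((key b a).mp h')⟩

/-- Stalk dimensions can only grow along a topological embedding. -/
theorem stalk_dim_le_of_isEmbedding {Z W : Scheme.{u}} (ι : Z ⟶ W) (h : IsEmbedding ι) (z : Z) :
    ringKrullDim (Z.presheaf.stalk z) ≤ ringKrullDim (W.presheaf.stalk (ι z)) := by
  rw [ringKrullDim_stalk_eq_coheight, ringKrullDim_stalk_eq_coheight]
  exact_mod_cast Order.coheight_le_coheight_apply_of_strictMono _ (strictMono_of_isEmbedding ι h) z

theorem stalk_dim_congr {Z : Scheme.{u}} {a b : Z} (h : a = b) :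
    ringKrullDim (Z.presheaf.stalk a) = ringKrullDim (Z.presheaf.stalk b) := by
  subst h; rfl

theorem coheight_subtype_congr {α : Type*} [Preorder α] {S T : Set α} (h : S = T) (a : α)
    (ha : a ∈ S) :
    Order.coheight (⟨a, ha⟩ : ↥S) = Order.coheight (⟨a, h ▸ ha⟩ : ↥T) := by
  subst h; rfl

/-- The fibre coheight only grows along an embedding of the source. -/
theorem G_comp_le {Z : Scheme.{u}} (ι : Z ⟶ X) (hι : IsEmbedding ι) (f : X ⟶ Y) (w : Z) :
    FibreOrder.G (ι ≫ f) w ≤ FibreOrder.G f (ι w) := by
  unfold FibreOrder.G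
  let φ : ↥((ι ≫ f) ⁻¹' {(ι ≫ f) w}) → ↥(f ⁻¹' {f (ι w)}) := fun a => ⟨ι a.1, a.2⟩
  have hφ : StrictMono φ := by
    intro a b hab
    exact strictMono_of_isEmbedding ι hι hab
  exact Order.coheight_le_coheight_apply_of_strictMono φ hφ ⟨w, rfl⟩

/-- Composing with an injective morphism on the target does not change the fibre coheight. -/
theorem G_comp_injective {Z Y' : Scheme.{u}} (g' : Z ⟶ Y') (ιY : Y' ⟶ Y)
    (hι : Function.Injective ιY) (w : Z) :
    FibreOrder.G (g' ≫ ιY) w = FibreOrder.G g' w := by
  unfold FibreOrder.G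
  have hS : (g' ≫ ιY) ⁻¹' {(g' ≫ ιY) w} = g' ⁻¹' {g' w} := by
    ext a
    simp only [Set.mem_preimage, Set.mem_singleton_iff]
    constructor
    · intro h; exact hι h
    · intro h
      show ιY (g' a) = ιY (g' w)
      rw [h]
  exact coheight_subtype_congr hS w rfl

/-- Composition with a locally quasi-finite morphism on the target does not change residue
transcendence degrees. -/
theorem tr_comp_of_lqf_right {U W V : Scheme.{u}} (π : U ⟶ W) (pr : W ⟶ V)
    [LocallyQuasiFinite pr] [LocallyOfFiniteType π] [LocallyOfFiniteType pr] (u : U) :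
    tr (π ≫ pr) u = tr π u := by
  have h0 := QFCodimOne.trdeg_eq_zero_of_quasiFiniteAt pr (π u) (pr.quasiFiniteAt (π u))
  have h1 := tr_spec (π ≫ pr) u
  have h2 := tr_spec π u
  letI a1 : Algebra (V.residueField (pr (π u))) (W.residueField (π u)) :=
    (pr.residueFieldMap (π u)).hom.toAlgebra
  letI a2 : Algebra (W.residueField (π u)) (U.residueField u) :=
    (π.residueFieldMap u).hom.toAlgebra
  letI a3 : Algebra (V.residueField (pr (π u))) (U.residueField u) :=
    ((π ≫ pr).residueFieldMap u).hom.toAlgebra
  haveI : IsScalarTower (V.residueField (pr (π u))) (W.residueField (π u))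
      (U.residueField u) := IsScalarTower.of_algebraMap_eq fun r => by
    show ((π ≫ pr).residueFieldMap u).hom r =
      (π.residueFieldMap u).hom ((pr.residueFieldMap (π u)).hom r)
    rw [Scheme.residueFieldMap_comp]
    rfl
  have h3 := _root_.trdeg_add_eq (V.residueField (pr (π u))) (W.residueField (π u))
    (A := U.residueField u)
  have h1' : Algebra.trdeg (V.residueField (pr (π u))) (U.residueField u) =
      (tr (π ≫ pr) u : ℕ) := h1
  have h4 : ((tr π u : ℕ) : Cardinal.{u}) = (tr (π ≫ pr) u : ℕ) := by
    rw [← h1', ← h2, ← h3]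
    have : Algebra.trdeg (V.residueField (pr (π u))) (W.residueField (π u)) = 0 := h0
    rw [this, zero_add]
  exact_mod_cast h4.symm

end Groth.Agent.Lib.Helper24.SubDim
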