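import Mathlib
import Groth.Agent.Lib.Helper24.SubDim.Basic

/-!
# The four conditions of EGA IV 13.2.7 for an irreducible closed subset (helper24)
-/

set_option autoImplicit false
set_option linter.style.haveILetI false
universe u
open scoped Cardinal
open AlgebraicGeometry CategoryTheory TopologicalSpace Topology
open Groth.Agent.Lib.Helper7 Groth.Agent.Lib.lead Groth.Agent.Lib.Helper18
open Groth.Agent.Lib.Helper24.FibreDim

namespace Groth.Agent.Lib.Helper24.SubDim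

variable {X Y : Scheme.{u}}

theorem exists_nat_of_ne (d : WithBot ℕ∞) (h1 : d ≠ ⊤) (h2 : d ≠ ⊥) :
    ∃ n : ℕ, d = ((n : ℕ∞) : WithBot ℕ∞) := by
  cases hR : d with
  | bot => exact absurd hR h2
  | coe a =>
    cases a with
    | top => exact absurd hR h1
    | coe n => exact ⟨n, rfl⟩

theorem exists_nat_stalk_dim {Z : Scheme.{u}} [IsLocallyNoetherian Z] (z : Z) :
    ∃ n : ℕ, ringKrullDim (Z.presheaf.stalk z) = ((n : ℕ∞) : WithBot ℕ∞) := by
  refine exists_nat_of_ne _ ringKrullDim_ne_top ?_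
  exact (lt_of_lt_of_le (WithBot.bot_lt_coe (0 : ℕ∞)) ringKrullDim_nonneg_of_nontrivial).ne'

section Core

variable {X' Y' : Scheme.{u}} [IsLocallyNoetherian Y] (f : X ⟶ Y) [LocallyOfFiniteType f]
  (ιX : X' ⟶ X) (ιY : Y' ⟶ Y) [IsClosedImmersion ιX] [IsClosedImmersion ιY]
  (g' : X' ⟶ Y') (hg' : g' ≫ ιY = ιX ≫ f)

include hg' in
theorem lft_g' : LocallyOfFiniteType g' := by
  haveI : LocallyOfFiniteType (g' ≫ ιY) := by rw [hg']; infer_instance
  exact locallyOfFiniteType_of_comp g' ιY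

include hg' in
/-- The dimension inequality for `X' ⟶ Y'`, with the fibre taken over `Y`. -/
theorem sub_ineq (w : X') :
    ringKrullDim (X'.presheaf.stalk w) ≤
      ringKrullDim (Y'.presheaf.stalk (g' w)) + (FibreOrder.G (ιX ≫ f) w : WithBot ℕ∞) := by
  haveI : IsLocallyNoetherian Y' := LocallyOfFiniteType.isLocallyNoetherian ιY
  haveI : LocallyOfFiniteType g' := lft_g' f ιX ιY g' hg'
  have h1 := StalkDimIneq.main g' w
  rw [FibreOrder.ringKrullDim_fiber_stalk g' w] at h1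
  rw [← Chev.G_congr hg' w, G_comp_injective g' ιY ιY.isClosedEmbedding.injective w]
  exact h1

include hg' in
theorem dA'_le (w : X') :
    ringKrullDim (Y'.presheaf.stalk (g' w)) ≤ ringKrullDim (Y.presheaf.stalk (f (ιX w))) := by
  have h1 := stalk_dim_le_of_isEmbedding ιY ιY.isClosedEmbedding.isEmbedding (g' w)
  have h2 : ιY (g' w) = f (ιX w) := by
    have := congrArg (fun h : X' ⟶ Y => h w) hg'
    exact this
  rwa [stalk_dim_congr h2] at h1

end Core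

theorem arith_iii (b' a' a'' : WithBot ℕ∞) (k' : ℕ∞) (tw tξ : ℕ)
    (ha : a' ≠ ⊤) (ha2 : a' ≠ ⊥) (hk : k' ≠ ⊤)
    (h4 : b' = a' + (k' : WithBot ℕ∞))
    (hle : b' + ((tw : ℕ) : WithBot ℕ∞) ≤ a'' + ((tξ : ℕ) : WithBot ℕ∞)) (ha'' : a'' ≤ a') :
    (((tw : ℕ) : ℕ∞) + k' : ℕ∞) ≤ ((tξ : ℕ) : ℕ∞) := by
  obtain ⟨na, rfl⟩ := exists_nat_of_ne a' ha ha2
  obtain ⟨nk, rfl⟩ := ENat.ne_top_iff_exists.mp hk
  subst h4
  have h1 : ((na : ℕ∞) : WithBot ℕ∞) + (((nk : ℕ) : ℕ∞) : WithBot ℕ∞) + ((tw : ℕ) : WithBot ℕ∞) ≤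
      ((na : ℕ∞) : WithBot ℕ∞) + ((tξ : ℕ) : WithBot ℕ∞) :=
    hle.trans (add_le_add ha'' le_rfl)
  have e1 : ((na : ℕ∞) : WithBot ℕ∞) + (((nk : ℕ) : ℕ∞) : WithBot ℕ∞) + ((tw : ℕ) : WithBot ℕ∞) =
      (((na + nk + tw : ℕ) : ℕ∞) : WithBot ℕ∞) := by push_cast; rfl
  have e2 : ((na : ℕ∞) : WithBot ℕ∞) + ((tξ : ℕ) : WithBot ℕ∞) =
      (((na + tξ : ℕ) : ℕ∞) : WithBot ℕ∞) := by push_cast; rfl
  rw [e1, e2] at h1
  have h2 : ((na + nk + tw : ℕ) : ℕ∞) ≤ ((na + tξ : ℕ) : ℕ∞) := WithBot.coe_le_coe.mp h1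
  have h3 : na + nk + tw ≤ na + tξ := by exact_mod_cast h2
  have h4 : tw + nk ≤ tξ := by omega
  exact_mod_cast h4

section Core2

variable {X' Y' : Scheme.{u}} [IsLocallyNoetherian Y] (f : X ⟶ Y) [LocallyOfFiniteType f]
  (ιX : X' ⟶ X) (ιY : Y' ⟶ Y) [IsClosedImmersion ιX] [IsClosedImmersion ιY]
  (g' : X' ⟶ Y') (hg' : g' ≫ ιY = ιX ≫ f)

omit [IsLocallyNoetherian Y] in
/-- The generic fibre dimension is a lower bound for the local fibre dimension. -/
theorem tr_generic_le [IrreducibleSpace X'] (w : X') :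
    ((tr (ιX ≫ f) (genericPoint X') : ℕ) : WithBot ℕ∞) ≤ FlatMor.fibreDimAt (ιX ≫ f) w := by
  have h1 := fibreDimAt_mono (ιX ≫ f) (_root_.genericPoint_specializes w)
  have hmax : ∀ z' : X', (ιX ≫ f) z' = (ιX ≫ f) (genericPoint X') → z' ⤳ genericPoint X' →
      z' = genericPoint X' := by
    intro z' _ hz'
    exact (hz'.antisymm (_root_.genericPoint_specializes z')).eq
  rw [fibreDimAt_of_fibre_max (ιX ≫ f) (genericPoint X') hmax] at h1
  exact h1

include hg' in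
/-- Condition (iv) implies condition (iii). -/
theorem fibreDimAt_eq_of_iv [IsIntegral X'] (w : X')
    (h4 : ringKrullDim (X'.presheaf.stalk w) =
      ringKrullDim (Y'.presheaf.stalk (g' w)) + (FibreOrder.G (ιX ≫ f) w : WithBot ℕ∞)) :
    FlatMor.fibreDimAt (ιX ≫ f) w = ((tr (ιX ≫ f) (genericPoint X') : ℕ) : WithBot ℕ∞) := by
  refine le_antisymm ?_ (tr_generic_le f ιX w)
  haveI : IsLocallyNoetherian Y' := LocallyOfFiniteType.isLocallyNoetherian ιY
  haveI : LocallyOfFiniteType g' := lft_g' f ιX ιY g' hg'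
  obtain ⟨𝔭, h𝔭, hmin, -, hle⟩ := stalk_pair_le g' w (genericPoint X')
    (_root_.genericPoint_specializes w)
  have h𝔭bot : 𝔭 = ⊥ := by
    have h1 := hmin (fun ξ' hξ' => (hξ'.antisymm (_root_.genericPoint_specializes ξ')).eq)
    rw [IsDomain.minimalPrimes_eq_singleton_bot] at h1
    exact h1
  subst h𝔭bot
  have e1 : ringKrullDim (X'.presheaf.stalk w ⧸ (⊥ : Ideal (X'.presheaf.stalk w))) =
      ringKrullDim (X'.presheaf.stalk w) :=
    ringKrullDim_eq_of_ringEquiv (RingEquiv.quotientBot _)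
  rw [e1] at hle
  have ha'' : ringKrullDim (Y'.presheaf.stalk (g' w) ⧸
      (⊥ : Ideal (X'.presheaf.stalk w)).comap (g'.stalkMap w).hom) ≤
      ringKrullDim (Y'.presheaf.stalk (g' w)) :=
    ringKrullDim_le_of_surjective _ Ideal.Quotient.mk_surjective
  have htw : tr g' w = tr (ιX ≫ f) w := by
    rw [← tr_comp_of_lqf_right g' ιY w]
    exact Chev.tr_congr hg' w
  have htξ : tr g' (genericPoint X') = tr (ιX ≫ f) (genericPoint X') := by
    rw [← tr_comp_of_lqf_right g' ιY (genericPoint X')]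
    exact Chev.tr_congr hg' _
  rw [htw, htξ] at hle
  have hA'1 : ringKrullDim (Y'.presheaf.stalk (g' w)) ≠ ⊤ := ringKrullDim_ne_top
  have hA'2 : ringKrullDim (Y'.presheaf.stalk (g' w)) ≠ ⊥ :=
    (lt_of_lt_of_le (WithBot.bot_lt_coe (0 : ℕ∞)) ringKrullDim_nonneg_of_nontrivial).ne'
  have key := arith_iii _ _ _ _ _ _ hA'1 hA'2 (G_ne_top' (ιX ≫ f) w) h4 hle ha''
  rw [fibreDimAt_eq_tr_add_G (ιX ≫ f) w]
  exact_mod_cast key

end Core2

end Groth.Agent.Lib.Helper24.SubDim
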