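import Mathlib
import Groth.Agent.Lib.Helper24.SubDim.Core

/-!
# EGA IV 13.2.7: the four conditions for an irreducible closed subset (helper24)
-/

set_option autoImplicit false
set_option linter.style.haveILetI false
universe u
open scoped Cardinal
open AlgebraicGeometry CategoryTheory TopologicalSpace Topology
open Groth.Agent.Lib.Helper7 Groth.Agent.Lib.lead Groth.Agent.Lib.Helper18
open Groth.Agent.Lib.Helper24.FibreDim

namespace Groth.Agent.Lib.Helper24.SubDim

variable {X Y : Scheme.{u}}

theorem arith_sandwich (b' a a' : WithBot ℕ∞) (k k' : ℕ∞) (ha : a ≠ ⊤) (ha'2 : a' ≠ ⊥)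
    (hk : k ≠ ⊤) (h : b' = a + (k : WithBot ℕ∞)) (i1 : b' ≤ a' + (k' : WithBot ℕ∞))
    (i2 : a' ≤ a) (i3 : k' ≤ k) :
    a' = a ∧ (k' : WithBot ℕ∞) = (k : WithBot ℕ∞) ∧ b' = a' + (k' : WithBot ℕ∞) := by
  have ha2 : a ≠ ⊥ := fun h0 => ha'2 (le_bot_iff.mp (h0 ▸ i2))
  have ha'1 : a' ≠ ⊤ := fun h0 => ha (top_le_iff.mp (h0 ▸ i2))
  have hk' : k' ≠ ⊤ := fun h0 => hk (top_le_iff.mp (h0 ▸ i3))
  obtain ⟨na, rfl⟩ := exists_nat_of_ne a ha ha2
  obtain ⟨na', rfl⟩ := exists_nat_of_ne a' ha'1 ha'2
  obtain ⟨nk, rfl⟩ := ENat.ne_top_iff_exists.mp hk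
  obtain ⟨nk', rfl⟩ := ENat.ne_top_iff_exists.mp hk'
  subst h
  have e1 : ((na : ℕ∞) : WithBot ℕ∞) + (((nk : ℕ) : ℕ∞) : WithBot ℕ∞) =
      (((na + nk : ℕ) : ℕ∞) : WithBot ℕ∞) := by push_cast; rfl
  have e2 : ((na' : ℕ∞) : WithBot ℕ∞) + (((nk' : ℕ) : ℕ∞) : WithBot ℕ∞) =
      (((na' + nk' : ℕ) : ℕ∞) : WithBot ℕ∞) := by push_cast; rfl
  rw [e1, e2] at i1
  have j1 : na + nk ≤ na' + nk' := by
    have := WithBot.coe_le_coe.mp i1
    exact_mod_cast this
  have j2 : na' ≤ na := by
    have := WithBot.coe_le_coe.mp i2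
    exact_mod_cast this
  have j3 : nk' ≤ nk := by exact_mod_cast i3
  have j4 : na' = na := by omega
  have j5 : nk' = nk := by omega
  subst j4 j5
  exact ⟨rfl, rfl, rfl⟩

section Core3

variable {X' Y' : Scheme.{u}} [IsLocallyNoetherian Y] (f : X ⟶ Y) [LocallyOfFiniteType f]
  (ιX : X' ⟶ X) (ιY : Y' ⟶ Y) [IsClosedImmersion ιX] [IsClosedImmersion ιY]
  (g' : X' ⟶ Y') (hg' : g' ≫ ιY = ιX ≫ f)

include hg' in
/-- The equivalence of EGA IV 13.2.7 in abstract form. -/
theorem core4985 [IsIntegral X'] (w : X') :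
    (ringKrullDim (X'.presheaf.stalk w) =
        ringKrullDim (Y.presheaf.stalk (f (ιX w))) + (FibreOrder.G f (ιX w) : WithBot ℕ∞) ↔
      (ringKrullDim (Y'.presheaf.stalk (g' w)) = ringKrullDim (Y.presheaf.stalk (f (ιX w))) ∧
        (FibreOrder.G (ιX ≫ f) w : WithBot ℕ∞) = (FibreOrder.G f (ιX w) : WithBot ℕ∞) ∧
        FlatMor.fibreDimAt (ιX ≫ f) w = ((tr (ιX ≫ f) (genericPoint X') : ℕ) : WithBot ℕ∞) ∧
        ringKrullDim (X'.presheaf.stalk w) =
          ringKrullDim (Y'.presheaf.stalk (g' w)) +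
            (FibreOrder.G (ιX ≫ f) w : WithBot ℕ∞))) := by
  constructor
  · intro h
    haveI : IsLocallyNoetherian Y' := LocallyOfFiniteType.isLocallyNoetherian ιY
    have i1 := sub_ineq f ιX ιY g' hg' w
    have i2 := dA'_le f ιX ιY g' hg' w
    have i3 := G_comp_le ιX ιX.isClosedEmbedding.isEmbedding f w
    have hA1 : ringKrullDim (Y.presheaf.stalk (f (ιX w))) ≠ ⊤ := ringKrullDim_ne_top
    have hA'2 : ringKrullDim (Y'.presheaf.stalk (g' w)) ≠ ⊥ :=
      (lt_of_lt_of_le (WithBot.bot_lt_coe (0 : ℕ∞)) ringKrullDim_nonneg_of_nontrivial).ne'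
    obtain ⟨r1, r2, r4⟩ := arith_sandwich _ _ _ _ _ hA1 hA'2 (G_ne_top' f (ιX w)) h i1 i2 i3
    exact ⟨r1, r2, fibreDimAt_eq_of_iv f ιX ιY g' hg' w r4, r4⟩
  · rintro ⟨h1, h2, -, h4⟩
    rw [h4, h1, h2]

end Core3

section Concrete

open Scheme.IdealSheafData

/-- The reduced closed subscheme on an irreducible closed subset is integral. -/
theorem isIntegral_vanishingIdeal_subscheme (X' : TopologicalSpace.Closeds X)
    (hirr : IsIrreducible (X' : Set X)) : IsIntegral (vanishingIdeal X').subscheme := by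
  haveI := isReduced_vanishingIdeal_subscheme X'
  haveI : IrreducibleSpace (vanishingIdeal X').subscheme := by
    have hr : Set.range (vanishingIdeal X').subschemeι = (X' : Set X) := by
      rw [range_subschemeι, coe_support_vanishingIdeal]
    have e := (vanishingIdeal X').subschemeι.isClosedEmbedding.isEmbedding.toHomeomorph
    rw [e.irreducibleSpace_iff, hr]
    exact Subtype.irreducibleSpace hirr
  exact isIntegral_of_irreducibleSpace_of_isReduced _

/-- The image of the generic point of the reduced subscheme is a generic point of `X'`. -/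
theorem closure_generic_vanishingIdeal (X' : TopologicalSpace.Closeds X)
    [IrreducibleSpace (vanishingIdeal X').subscheme] :
    closure ({(vanishingIdeal X').subschemeι (genericPoint (vanishingIdeal X').subscheme)} :
      Set X) = (X' : Set X) := by
  have h1 := (vanishingIdeal X').subschemeι.isClosedEmbedding.closure_image_eq
    ({genericPoint (vanishingIdeal X').subscheme} : Set (vanishingIdeal X').subscheme)
  rw [Set.image_singleton] at h1
  rw [h1, genericPoint_closure, Set.image_univ, range_subschemeι, coe_support_vanishingIdeal]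

end Concrete

section Main

open Scheme.IdealSheafData

theorem main4985_aux [IsLocallyNoetherian Y] (f : X ⟶ Y) [LocallyOfFiniteType f]
    (I : X.IdealSheafData) (J : Y.IdealSheafData) (H : J ≤ I.map f) [IsIntegral I.subscheme]
    (w : I.subscheme) (v : J.subscheme) (hv : J.subschemeι v = f (I.subschemeι w))
    (η' : Y) (Z : Set X)
    (hcl : closure ({I.subschemeι (genericPoint I.subscheme)} : Set X) = Z)
    (hη' : closure ({η'} : Set Y) = closure (f '' Z)) :
    (ringKrullDim (I.subscheme.presheaf.stalk w) =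
        ringKrullDim (Y.presheaf.stalk (f (I.subschemeι w))) +
          ringKrullDim ((f.fiber (f (I.subschemeι w))).presheaf.stalk
            (f.asFiber (I.subschemeι w))) ↔
      (ringKrullDim (J.subscheme.presheaf.stalk v) =
          ringKrullDim (Y.presheaf.stalk (f (I.subschemeι w))) ∧
        ringKrullDim (((I.subschemeι ≫ f).fiber ((I.subschemeι ≫ f) w)).presheaf.stalk
            ((I.subschemeι ≫ f).asFiber w)) =
          ringKrullDim ((f.fiber (f (I.subschemeι w))).presheaf.stalk
            (f.asFiber (I.subschemeι w))) ∧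
        FlatMor.fibreDimAt (I.subschemeι ≫ f) w = topologicalKrullDim ↥(Z ∩ f ⁻¹' {η'}) ∧
        ringKrullDim (I.subscheme.presheaf.stalk w) =
          ringKrullDim (J.subscheme.presheaf.stalk v) +
            ringKrullDim (((I.subschemeι ≫ f).fiber ((I.subschemeι ≫ f) w)).presheaf.stalk
              ((I.subschemeι ≫ f).asFiber w)))) := by
  let g' : I.subscheme ⟶ J.subscheme := I.subschemeMap J f H
  have hg' : g' ≫ J.subschemeι = I.subschemeι ≫ f := subschemeMap_subschemeι I J f H
  obtain rfl : v = g' w := by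
    apply J.subschemeι.isClosedEmbedding.injective
    rw [hv]
    exact (congrArg (fun h : I.subscheme ⟶ Y => h w) hg').symm
  -- the generic point
  have hfξ : f (I.subschemeι (genericPoint I.subscheme)) = η' := by
    have h1 : closure ({f (I.subschemeι (genericPoint I.subscheme))} : Set Y) =
        closure ({η'} : Set Y) := by
      rw [hη', ← hcl, closure_image_closure_singleton _ f.continuous]
    have h2 : f (I.subschemeι (genericPoint I.subscheme)) ⤳ η' := by
      rw [specializes_iff_closure_subset, h1]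
    have h3 : η' ⤳ f (I.subschemeι (genericPoint I.subscheme)) := by
      rw [specializes_iff_closure_subset, h1]
    exact (h2.antisymm h3).eq
  have he' : topologicalKrullDim ↥(Z ∩ f ⁻¹' {η'}) =
      ((tr (I.subschemeι ≫ f) (genericPoint I.subscheme) : ℕ) : WithBot ℕ∞) := by
    rw [← hcl, ← hfξ]
    rw [dim_closure_inter_fibre f _, tr_comp_of_lqf I.subschemeι f]
  have key := core4985 f I.subschemeι J.subschemeι g' hg' w
  rw [← FibreOrder.ringKrullDim_fiber_stalk f (I.subschemeι w),
    ← FibreOrder.ringKrullDim_fiber_stalk (I.subschemeι ≫ f) w, ← he'] at key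
  exact key

theorem main4985 [IsLocallyNoetherian Y] (f : X ⟶ Y)
    [LocallyOfFiniteType f] (x : X) (X' : TopologicalSpace.Closeds X)
    (hirr : IsIrreducible (X' : Set X))
    (w : ↥(Scheme.IdealSheafData.vanishingIdeal X').subscheme)
    (hw : (Scheme.IdealSheafData.vanishingIdeal X').subschemeι.base w = x)
    (v : ↥(Scheme.IdealSheafData.vanishingIdeal
      (⟨closure (f.base '' (X' : Set X)), isClosed_closure⟩ : TopologicalSpace.Closeds Y)).subscheme)
    (hv : (Scheme.IdealSheafData.vanishingIdeal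
      (⟨closure (f.base '' (X' : Set X)), isClosed_closure⟩ :
        TopologicalSpace.Closeds Y)).subschemeι.base v = f.base x)
    (η' : Y) (hη' : closure ({η'} : Set Y) = closure (f.base '' (X' : Set X))) :
    letI ιX := (Scheme.IdealSheafData.vanishingIdeal X').subschemeι
    letI dA := ringKrullDim (Y.presheaf.stalk (f.base x))
    letI dA' := ringKrullDim ((Scheme.IdealSheafData.vanishingIdeal
      (⟨closure (f.base '' (X' : Set X)), isClosed_closure⟩ :
        TopologicalSpace.Closeds Y)).subscheme.presheaf.stalk v)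
    letI dB' := ringKrullDim ((Scheme.IdealSheafData.vanishingIdeal X').subscheme.presheaf.stalk w)
    letI dBk := ringKrullDim ((f.fiber (f.base x)).presheaf.stalk (f.asFiber x))
    letI dB'k := ringKrullDim (((ιX ≫ f).fiber ((ιX ≫ f).base w)).presheaf.stalk
      ((ιX ≫ f).asFiber w))
    letI e' := topologicalKrullDim ↥((X' : Set X) ∩ f.base ⁻¹' {η'})
    (dB' = dA + dBk ↔
      (dA' = dA ∧ dB'k = dBk ∧ FlatMor.fibreDimAt (ιX ≫ f) w = e' ∧ dB' = dA' + dB'k)) := by
  subst hw
  haveI : IsIntegral (vanishingIdeal X').subscheme := isIntegral_vanishingIdeal_subscheme X' hirr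
  exact main4985_aux f (vanishingIdeal X') _ (map_vanishingIdeal f X').ge w v hv η' (X' : Set X)
    (closure_generic_vanishingIdeal X') hη'

end Main

end Groth.Agent.Lib.Helper24.SubDim
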