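import Mathlib
import Groth.Agent.Lib.Helper24.SubDim.Main4985

/-!
# EGA IV 13.2.7 (ii): the four conditions under the dimension formula (helper24)
-/

set_option autoImplicit false
set_option linter.style.haveILetI false
universe u
open scoped Cardinal
open AlgebraicGeometry CategoryTheory TopologicalSpace Topology
open Groth.Agent.Lib.Helper7 Groth.Agent.Lib.lead Groth.Agent.Lib.Helper18
open Groth.Agent.Lib.Helper24.FibreDim

namespace Groth.Agent.Lib.Helper24.SubDim

variable {X Y : Scheme.{u}}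

open Scheme.IdealSheafData

/-- Condition (ii) in terms of local dimensions is condition (ii) in terms of local rings. -/
theorem cond_ii_iff (f : X ⟶ Y) [LocallyOfFiniteType f] {X'' : Scheme.{u}} (ι : X'' ⟶ X)
    [IsClosedImmersion ι] (w : X'') :
    FlatMor.fibreDimAt (ι ≫ f) w = FlatMor.fibreDimAt f (ι w) ↔
      ringKrullDim (((ι ≫ f).fiber ((ι ≫ f) w)).presheaf.stalk ((ι ≫ f).asFiber w)) =
        ringKrullDim ((f.fiber (f (ι w))).presheaf.stalk (f.asFiber (ι w))) := by
  rw [FibreOrder.ringKrullDim_fiber_stalk f (ι w),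
    FibreOrder.ringKrullDim_fiber_stalk (ι ≫ f) w, fibreDimAt_eq_tr_add_G (ι ≫ f) w,
    fibreDimAt_eq_tr_add_G f (ι w), tr_comp_of_lqf ι f w]
  have h1 := G_ne_top' (ι ≫ f) w
  have h2 := G_ne_top' f (ι w)
  obtain ⟨n1, hn1⟩ := ENat.ne_top_iff_exists.mp h1
  obtain ⟨n2, hn2⟩ := ENat.ne_top_iff_exists.mp h2
  rw [← hn1, ← hn2]
  constructor
  · intro h
    have h' : (((tr f (ι w) : ℕ) : ℕ∞) + ((n1 : ℕ) : ℕ∞)) =
        (((tr f (ι w) : ℕ) : ℕ∞) + ((n2 : ℕ) : ℕ∞)) := WithBot.coe_injective h
    have h'' : tr f (ι w) + n1 = tr f (ι w) + n2 := by exact_mod_cast h'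
    have : n1 = n2 := by omega
    rw [this]
  · intro h
    have h' : ((n1 : ℕ) : ℕ∞) = ((n2 : ℕ) : ℕ∞) := WithBot.coe_injective h
    rw [h']

theorem main4986 [IsLocallyNoetherian Y] (f : X ⟶ Y)
    [LocallyOfFiniteType f] (x : X) (X' : TopologicalSpace.Closeds X)
    (hirr : IsIrreducible (X' : Set X))
    (hx : x ∈ X') (w : ↥(Scheme.IdealSheafData.vanishingIdeal X').subscheme)
    (hw : (Scheme.IdealSheafData.vanishingIdeal X').subschemeι.base w = x)
    (v : ↥(Scheme.IdealSheafData.vanishingIdeal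
      (⟨closure (f.base '' (X' : Set X)), isClosed_closure⟩ : TopologicalSpace.Closeds Y)).subscheme)
    (hv : (Scheme.IdealSheafData.vanishingIdeal
      (⟨closure (f.base '' (X' : Set X)), isClosed_closure⟩ :
        TopologicalSpace.Closeds Y)).subschemeι.base v = f.base x)
    (η' : Y) (hη' : closure ({η'} : Set Y) = closure (f.base '' (X' : Set X))) :
    letI ιX := (Scheme.IdealSheafData.vanishingIdeal X').subschemeι
    letI dA := ringKrullDim (Y.presheaf.stalk (f.base x))
    letI dB := ringKrullDim (X.presheaf.stalk x)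
    letI dA' := ringKrullDim ((Scheme.IdealSheafData.vanishingIdeal
      (⟨closure (f.base '' (X' : Set X)), isClosed_closure⟩ :
        TopologicalSpace.Closeds Y)).subscheme.presheaf.stalk v)
    letI dB' := ringKrullDim ((Scheme.IdealSheafData.vanishingIdeal X').subscheme.presheaf.stalk w)
    letI dBk := ringKrullDim ((f.fiber (f.base x)).presheaf.stalk (f.asFiber x))
    letI dB'k := ringKrullDim (((ιX ≫ f).fiber ((ιX ≫ f).base w)).presheaf.stalk
      ((ιX ≫ f).asFiber w))
    letI e' := topologicalKrullDim ↥((X' : Set X) ∩ f.base ⁻¹' {η'})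
    dB = dA + dBk →
      ((dA' = dA ∧ FlatMor.localDim ↥((X' : Set X) ∩ f.base ⁻¹' {f.base x}) ⟨x, ⟨hx, rfl⟩⟩ =
          FlatMor.fibreDimAt f x ∧
        FlatMor.fibreDimAt (ιX ≫ f) w = e' ∧ dB' = dA' + dB'k) ↔ dB' = dB) := by
  intro hB
  have main := main4985 f x X' hirr w hw v hv η' hη'
  subst hw
  have hr : Set.range (vanishingIdeal X').subschemeι = (X' : Set X) := by
    rw [range_subschemeι, coe_support_vanishingIdeal]
  have hloc := localDim_inter_fibre_eq (vanishingIdeal X').subschemeι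
    (vanishingIdeal X').subschemeι.isClosedEmbedding f (X' : Set X) hr w ⟨hx, rfl⟩
  have hii := cond_ii_iff f (vanishingIdeal X').subschemeι w
  rw [hB, main]
  constructor
  · rintro ⟨h1, h2, h3, h4⟩
    refine ⟨h1, hii.mp ?_, h3, h4⟩
    rw [← hloc]
    exact h2
  · rintro ⟨h1, h2, h3, h4⟩
    refine ⟨h1, ?_, h3, h4⟩
    have := hii.mpr h2
    rw [← hloc] at this
    exact this

end Groth.Agent.Lib.Helper24.SubDim
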