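import Mathlib
import Groth.Agent.Lib.Helper24.SubDim.Main4986
import Groth.Agent.Lib.Helper24.FibreDim.Main3391

/-!
# Irreducible components computing the local dimension (helper24)
-/

set_option autoImplicit false
set_option linter.style.haveILetI false
universe u
open scoped Cardinal
open AlgebraicGeometry CategoryTheory TopologicalSpace Topology
open Groth.Agent.Lib.Helper7 Groth.Agent.Lib.lead Groth.Agent.Lib.Helper18
open Groth.Agent.Lib.Helper24.FibreDim

namespace Groth.Agent.Lib.Helper24.SubDim

variable {X Y : Scheme.{u}}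

/-- A chain in the range of an order-reflecting map lifts. -/
theorem le_coheight_of_chain_in_range {α β : Type*} [Preorder α] [Preorder β] (ι : α → β)
    (hι : ∀ a b, ι a ≤ ι b ↔ a ≤ b) (p : LTSeries β) (hp : ∀ i, p i ∈ Set.range ι) (w : α)
    (hw : ι w = p.head) :
    (p.length : ℕ∞) ≤ Order.coheight w := by
  choose q hq using hp
  have hlt : ∀ a b, ι a < ι b → a < b := by
    intro a b hab
    rw [lt_iff_le_not_ge] at hab ⊢
    exact ⟨(hι a b).mp hab.1, fun h' => hab.2 ((hι b a).mpr h')⟩
  have hmono : StrictMono q := by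
    intro i j hij
    apply hlt
    rw [hq i, hq j]
    exact p.strictMono hij
  let P : LTSeries α := LTSeries.mk p.length q hmono
  have hhead : w ≤ P.head := by
    rw [← hι]
    show ι w ≤ ι (q 0)
    rw [hq 0, hw]
    rfl
  exact Order.length_le_coheight hhead

theorem isEmbedding_le_iff {Z W : Scheme.{u}} (ι : Z ⟶ W) (h : IsEmbedding ι) (a b : Z) :
    ι a ≤ ι b ↔ a ≤ b := by
  rw [Scheme.le_iff_specializes, Scheme.le_iff_specializes]
  exact h.isInducing.specializes_iff

/-- There is a maximal generization `ξ` of `z` such that any subscheme structure on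
`closure {ξ}` has the same local dimension at `z` as `X`. -/
theorem exists_component_dim_eq [IsLocallyNoetherian X] (z : X) :
    ∃ ξ : X, ξ ⤳ z ∧ (∀ ξ' : X, ξ' ⤳ ξ → ξ' = ξ) ∧
      ∀ (X'' : Scheme.{u}) (ι : X'' ⟶ X) (_ : IsEmbedding ι)
        (_ : Set.range ι = closure ({ξ} : Set X)) (w : X'') (_ : ι w = z),
        ringKrullDim (X''.presheaf.stalk w) = ringKrullDim (X.presheaf.stalk z) := by
  obtain ⟨n, hn⟩ := exists_nat_stalk_dim z
  have hn' : Order.coheight z = (n : ℕ∞) := by
    rw [ringKrullDim_stalk_eq_coheight] at hn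
    exact WithBot.coe_injective hn
  obtain ⟨p, hp, hl⟩ := Order.exists_series_of_coheight_eq_coe z hn'
  obtain ⟨ξ, hξ1, hξ2⟩ := FibreOrder.exists_isMax_ge p.last
  have hzle : z ≤ ξ := by
    rw [← hp]
    exact le_trans (LTSeries.head_le_last p) hξ1
  refine ⟨ξ, (Scheme.le_iff_specializes).mp hzle, ?_, ?_⟩
  · intro ξ' hξ'
    have h1 : ξ ≤ ξ' := (Scheme.le_iff_specializes).mpr hξ'
    have h2 : ξ' ≤ ξ := hξ2 h1
    exact ((Scheme.le_iff_specializes.mp h1).antisymm (Scheme.le_iff_specializes.mp h2)).eq
  · intro X'' ι hι hr w hw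
    refine le_antisymm ?_ ?_
    · rw [← hw]
      exact stalk_dim_le_of_isEmbedding ι hι w
    · rw [hn, ringKrullDim_stalk_eq_coheight]
      have hrange : ∀ i, p i ∈ Set.range ι := by
        intro i
        rw [hr]
        have h1 : p i ≤ ξ := le_trans (p.monotone (Fin.le_last i)) hξ1
        exact (specializes_iff_mem_closure).mp (Scheme.le_iff_specializes.mp h1)
      have := le_coheight_of_chain_in_range ι (isEmbedding_le_iff ι hι) p hrange w (hw.trans hp.symm)
      rw [hl] at this
      exact_mod_cast this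

/-- A closed irreducible subset of an irreducible locally Noetherian scheme whose local dimension
at a point is the full one is everything. -/
theorem eq_genericPoint_of_stalk_dim_eq [IrreducibleSpace Y] [IsLocallyNoetherian Y]
    {Y'' : Scheme.{u}} (ιY : Y'' ⟶ Y) (hι : IsEmbedding ιY) (η'' : Y)
    (hr : Set.range ιY ⊆ closure ({η''} : Set Y)) (v : Y'')
    (h : ringKrullDim (Y''.presheaf.stalk v) = ringKrullDim (Y.presheaf.stalk (ιY v))) :
    η'' = genericPoint Y := by
  by_contra hne
  obtain ⟨n, hn⟩ := exists_nat_stalk_dim (ιY v)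
  rw [hn, ringKrullDim_stalk_eq_coheight] at h
  have h' : Order.coheight v = (n : ℕ∞) := WithBot.coe_injective h
  obtain ⟨p, hp, hl⟩ := Order.exists_series_of_coheight_eq_coe v h'
  let P : LTSeries Y := p.map ιY (strictMono_of_isEmbedding ιY hι)
  have hlast : P.last < genericPoint Y := by
    have h1 : P.last ≤ η'' := by
      have : P.last ∈ closure ({η''} : Set Y) := hr ⟨p.last, by simp [P]⟩
      exact Scheme.le_iff_specializes.mpr (specializes_iff_mem_closure.mpr this)
    have h2 : η'' < genericPoint Y := by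
      rw [lt_iff_le_not_ge]
      refine ⟨Scheme.le_iff_specializes.mpr (_root_.genericPoint_specializes η''), fun h3 => hne ?_⟩
      exact ((Scheme.le_iff_specializes.mp h3).antisymm
        (_root_.genericPoint_specializes η'')).eq
    exact lt_of_le_of_lt h1 h2
  let Q : LTSeries Y := P.snoc (genericPoint Y) hlast
  have hQ : (Q.length : ℕ∞) ≤ Order.coheight (ιY v) := by
    apply Order.length_le_coheight
    have : Q.head = ιY v := by
      simp [Q, P, hp]
    rw [this]
  rw [ringKrullDim_stalk_eq_coheight] at hn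
  have hn' : Order.coheight (ιY v) = (n : ℕ∞) := WithBot.coe_injective hn
  rw [hn'] at hQ
  have hQl : Q.length = n + 1 := by simp [Q, P, hl]
  rw [hQl] at hQ
  have : n + 1 ≤ n := by exact_mod_cast hQ
  omega

end Groth.Agent.Lib.Helper24.SubDim
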