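import Mathlib
import Groth.Agent.Lib.Helper24.SubDim.Comp

/-!
# EGA IV 14.2: dimension formula at generic points of fibre components (helper24)
-/

set_option autoImplicit false
set_option linter.style.haveILetI false
universe u
open scoped Cardinal
open AlgebraicGeometry CategoryTheory TopologicalSpace Topology
open Groth.Agent.Lib.Helper7 Groth.Agent.Lib.lead Groth.Agent.Lib.Helper18
open Groth.Agent.Lib.Helper24.FibreDim

namespace Groth.Agent.Lib.Helper24.SubDim

variable {X Y : Scheme.{u}}

open Scheme.IdealSheafData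

/-- `(b) ⟹ (c)` at a single point, with the generic point of the component. -/
theorem b_imp_c_point [IrreducibleSpace Y] [IsLocallyNoetherian Y] (f : X ⟶ Y)
    [LocallyOfFiniteType f] (z : X)
    (hG : ringKrullDim ((f.fiber (f z)).presheaf.stalk (f.asFiber z)) = 0)
    (hb : ringKrullDim (X.presheaf.stalk z) = ringKrullDim (Y.presheaf.stalk (f z))) :
    ∃ ξ : X, ξ ⤳ z ∧ (∀ ξ' : X, ξ' ⤳ ξ → ξ' = ξ) ∧ f ξ = genericPoint Y ∧
      topologicalKrullDim ↥(closure ({ξ} : Set X) ∩ f ⁻¹' {genericPoint Y}) =
        FlatMor.fibreDimAt f z := by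
  haveI : IsLocallyNoetherian X := LocallyOfFiniteType.isLocallyNoetherian f
  obtain ⟨ξ, hξz, hξmax, hdim⟩ := exists_component_dim_eq z
  let X'c : TopologicalSpace.Closeds X := ⟨closure {ξ}, isClosed_closure⟩
  have hirr : IsIrreducible (X'c : Set X) := isIrreducible_singleton.closure
  haveI : IsIntegral (vanishingIdeal X'c).subscheme := isIntegral_vanishingIdeal_subscheme X'c hirr
  have hr : Set.range (vanishingIdeal X'c).subschemeι = closure ({ξ} : Set X) := by
    rw [range_subschemeι, coe_support_vanishingIdeal]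
    rfl
  obtain ⟨w, hw⟩ : z ∈ Set.range (vanishingIdeal X'c).subschemeι := by
    rw [hr]; exact specializes_iff_mem_closure.mp hξz
  subst hw
  have hdim' := hdim _ (vanishingIdeal X'c).subschemeι
    (vanishingIdeal X'c).subschemeι.isClosedEmbedding.isEmbedding hr w rfl
  have H := (map_vanishingIdeal f X'c).ge
  have hg' := subschemeMap_subschemeι (vanishingIdeal X'c) _ f H
  set g' := (vanishingIdeal X'c).subschemeMap _ f H with hg'def
  have hv : (vanishingIdeal (TopologicalSpace.Closeds.closure (f '' (X'c : Set X)))).subschemeι (g' w) =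
      f ((vanishingIdeal X'c).subschemeι w) :=
    congrArg (fun h : (vanishingIdeal X'c).subscheme ⟶ Y => h w) hg'
  have hη' : closure ({f ξ} : Set Y) = closure (f '' closure ({ξ} : Set X)) :=
    (closure_image_closure_singleton _ f.continuous ξ).symm
  have main := main4985_aux f (vanishingIdeal X'c) _ H w (g' w) hv (f ξ) (closure ({ξ} : Set X))
    (closure_generic_vanishingIdeal X'c) hη'
  have hlhs : ringKrullDim ((vanishingIdeal X'c).subscheme.presheaf.stalk w) =
      ringKrullDim (Y.presheaf.stalk (f ((vanishingIdeal X'c).subschemeι w))) +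
        ringKrullDim ((f.fiber (f ((vanishingIdeal X'c).subschemeι w))).presheaf.stalk
          (f.asFiber ((vanishingIdeal X'c).subschemeι w))) := by
    rw [hG, add_zero, hdim', hb]
  obtain ⟨h1, h2, h3, -⟩ := main.mp hlhs
  have hfξ : f ξ = genericPoint Y := by
    refine eq_genericPoint_of_stalk_dim_eq _
      (vanishingIdeal (TopologicalSpace.Closeds.closure (f '' (X'c : Set X)))).subschemeι.isClosedEmbedding.isEmbedding
      (f ξ) ?_ (g' w) ?_
    · rw [range_subschemeι, coe_support_vanishingIdeal]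
      exact hη'.ge
    · rw [h1]
      exact (stalk_dim_congr hv).symm
  refine ⟨ξ, hξz, hξmax, hfξ, ?_⟩
  rw [← hfξ, ← h3]
  exact (cond_ii_iff f (vanishingIdeal X'c).subschemeι w).mpr h2

/-- `(b) ⟹ (c)` at a single point. -/
theorem b_imp_c [IrreducibleSpace Y] [IsLocallyNoetherian Y] (f : X ⟶ Y)
    [LocallyOfFiniteType f] (z : X)
    (hG : ringKrullDim ((f.fiber (f z)).presheaf.stalk (f.asFiber z)) = 0)
    (hb : ringKrullDim (X.presheaf.stalk z) = ringKrullDim (Y.presheaf.stalk (f z))) :
    ∃ X' ∈ irreducibleComponents (X : Type u), z ∈ X' ∧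
      topologicalKrullDim ↥(X' ∩ f ⁻¹' {genericPoint Y}) = FlatMor.fibreDimAt f z := by
  obtain ⟨ξ, hξz, hξmax, -, hdim⟩ := b_imp_c_point f z hG hb
  exact ⟨closure {ξ}, (AffPts.closure_mem_irreducibleComponents_iff ξ).mpr hξmax,
    specializes_iff_mem_closure.mp hξz, hdim⟩

/-- `(c) ⟹ (b)` at a single point, when the local ring of the base is universally catenary. -/
theorem c_imp_b [IrreducibleSpace Y] [IsLocallyNoetherian Y] (f : X ⟶ Y)
    [LocallyOfFiniteType f] (z : X)
    (hcat : CAlg.IsUniversallyCatenary (Y.presheaf.stalk (f z)))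
    (hG : ringKrullDim ((f.fiber (f z)).presheaf.stalk (f.asFiber z)) = 0)
    (X' : Set X) (hX' : X' ∈ irreducibleComponents (X : Type u)) (hz : z ∈ X')
    (hc : topologicalKrullDim ↥(X' ∩ f ⁻¹' {genericPoint Y}) = FlatMor.fibreDimAt f z) :
    ringKrullDim (X.presheaf.stalk z) = ringKrullDim (Y.presheaf.stalk (f z)) := by
  haveI : IsLocallyNoetherian X := LocallyOfFiniteType.isLocallyNoetherian f
  let X'c : TopologicalSpace.Closeds X := ⟨X', isClosed_of_mem_irreducibleComponents X' hX'⟩
  have hirr : IsIrreducible (X'c : Set X) := hX'.1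
  haveI : IsIntegral (vanishingIdeal X'c).subscheme := isIntegral_vanishingIdeal_subscheme X'c hirr
  have hr : Set.range (vanishingIdeal X'c).subschemeι = X' := by
    rw [range_subschemeι, coe_support_vanishingIdeal]
    rfl
  obtain ⟨w, hw⟩ : z ∈ Set.range (vanishingIdeal X'c).subschemeι := by
    rw [hr]; exact hz
  subst hw
  set ιX := (vanishingIdeal X'c).subschemeι with hιX
  set ξ'' := genericPoint (vanishingIdeal X'c).subscheme with hξ''
  have hcl : closure ({ιX ξ''} : Set X) = X' := closure_generic_vanishingIdeal X'c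
  have hG0 : FibreOrder.G f (ιX w) = 0 := by
    rw [FibreOrder.ringKrullDim_fiber_stalk] at hG
    exact_mod_cast hG
  have hfd : FlatMor.fibreDimAt f (ιX w) = ((tr f (ιX w) : ℕ) : WithBot ℕ∞) := by
    rw [fibreDimAt_eq_tr_add_G, hG0, add_zero]
    rfl
  -- the generic point of `X'` maps to the generic point of `Y`
  have hne : (X' ∩ f ⁻¹' {genericPoint Y}).Nonempty := by
    by_contra hemp
    rw [Set.not_nonempty_iff_eq_empty] at hemp
    haveI : IsEmpty ↥(X' ∩ f ⁻¹' {genericPoint Y}) := by
      rw [hemp]; infer_instance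
    have hbot : topologicalKrullDim ↥(X' ∩ f ⁻¹' {genericPoint Y}) = ⊥ := by
      unfold topologicalKrullDim
      haveI : IsEmpty (TopologicalSpace.IrreducibleCloseds ↥(X' ∩ f ⁻¹' {genericPoint Y})) :=
        ⟨fun s => by
          obtain ⟨x, -⟩ := s.isIrreducible.nonempty
          exact isEmptyElim x⟩
      exact Order.krullDim_eq_bot
    rw [hfd, hbot] at hc
    exact absurd hc.symm (by simp)
  obtain ⟨x', hx'X, hx'η⟩ := hne
  have hfξ : f (ιX ξ'') = genericPoint Y := by
    have h1 : ιX ξ'' ⤳ x' := by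
      rw [specializes_iff_mem_closure, hcl]; exact hx'X
    have h2 : f (ιX ξ'') ⤳ genericPoint Y := by
      have := h1.map f.continuous
      rwa [show f x' = genericPoint Y from hx'η] at this
    exact (h2.antisymm (_root_.genericPoint_specializes _)).eq
  have hdense : DenseRange (ιX ≫ f).base := by
    have h1 : closure ({genericPoint Y} : Set Y) ⊆ closure (Set.range (ιX ≫ f).base) := by
      apply closure_mono
      rw [Set.singleton_subset_iff]
      exact ⟨ξ'', hfξ⟩
    rw [genericPoint_closure] at h1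
    exact fun y => h1 (Set.mem_univ y)
  have hform := coheight_add_tr_eq_local (ιX ≫ f) hdense w hcat
  rw [tr_comp_of_lqf ιX f w, tr_comp_of_lqf ιX f ξ''] at hform
  -- the transcendence degrees agree
  have htr : tr f (ιX ξ'') = tr f (ιX w) := by
    have h1 : topologicalKrullDim ↥(X' ∩ f ⁻¹' {genericPoint Y}) =
        ((tr f (ιX ξ'') : ℕ) : WithBot ℕ∞) := by
      rw [← hcl, ← hfξ]
      exact dim_closure_inter_fibre f (ιX ξ'')
    rw [h1, hfd] at hc
    exact_mod_cast hc
  rw [htr] at hform
  have hco : Order.coheight w = Order.coheight ((ιX ≫ f) w) :=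
    ENat.add_left_injective_of_ne_top (ENat.natCast_ne_top _) hform
  have hB' : ringKrullDim ((vanishingIdeal X'c).subscheme.presheaf.stalk w) =
      ringKrullDim (Y.presheaf.stalk (f (ιX w))) := by
    rw [ringKrullDim_stalk_eq_coheight, ringKrullDim_stalk_eq_coheight, hco]
    rfl
  refine le_antisymm ?_ ?_
  · have h1 := StalkDimIneq.main f (ιX w)
    rwa [hG, add_zero] at h1
  · rw [← hB']
    exact stalk_dim_le_of_isEmbedding ιX ιX.isClosedEmbedding.isEmbedding w

theorem main3393 [IrreducibleSpace Y] [IsLocallyNoetherian Y]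
    (f : X ⟶ Y) [LocallyOfFiniteType f] (y : Y) :
    ((∀ z : X, f.base z = y → ringKrullDim ((f.fiber (f.base z)).presheaf.stalk (f.asFiber z)) = 0 →
        ringKrullDim (X.presheaf.stalk z) = ringKrullDim (Y.presheaf.stalk (f.base z))) →
      (∀ z : X, f.base z = y → ringKrullDim ((f.fiber (f.base z)).presheaf.stalk (f.asFiber z)) = 0 →
        ∃ X' ∈ irreducibleComponents (X : Type u), z ∈ X' ∧
          topologicalKrullDim ↥(X' ∩ f.base ⁻¹' {genericPoint Y}) = FlatMor.fibreDimAt f z)) ∧
    (CAlg.IsUniversallyCatenary (Y.presheaf.stalk y) →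
      (∀ z : X, f.base z = y → ringKrullDim ((f.fiber (f.base z)).presheaf.stalk (f.asFiber z)) = 0 →
        ∃ X' ∈ irreducibleComponents (X : Type u), z ∈ X' ∧
          topologicalKrullDim ↥(X' ∩ f.base ⁻¹' {genericPoint Y}) = FlatMor.fibreDimAt f z) →
      (∀ z : X, f.base z = y → ringKrullDim ((f.fiber (f.base z)).presheaf.stalk (f.asFiber z)) = 0 →
        ringKrullDim (X.presheaf.stalk z) = ringKrullDim (Y.presheaf.stalk (f.base z)))) := by
  refine ⟨fun hb z hz hG => b_imp_c f z hG (hb z hz hG), fun hcat hc z hz hG => ?_⟩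
  obtain ⟨X', hX', hzX', hdim⟩ := hc z hz hG
  subst hz
  exact c_imp_b f z hcat hG X' hX' hzX' hdim

end Groth.Agent.Lib.Helper24.SubDim
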