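import Mathlib
import Groth.Agent.Lib.Helper24.SubDim.Main3393
import Groth.Agent.Lib.Helper24.OpenAt.Main4920

/-!
# EGA IV 14.2.6-type: fibre component dimensions under the dimension formula (helper24)
-/

set_option autoImplicit false
set_option linter.style.haveILetI false
universe u
open scoped Cardinal
open AlgebraicGeometry CategoryTheory TopologicalSpace Topology
open Groth.Agent.Lib.Helper7 Groth.Agent.Lib.lead Groth.Agent.Lib.Helper18
open Groth.Agent.Lib.Helper24.FibreDim Groth.Agent.Lib.Helper24.OpenAt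

namespace Groth.Agent.Lib.Helper24.SubDim

variable {X Y : Scheme.{u}}

theorem main4958 [IrreducibleSpace Y] [IsLocallyNoetherian Y] (f : X ⟶ Y)
    [LocallyOfFiniteType f] (y : Y)
    (hb : ∀ z : X, f.base z = y → (∀ z' : X, f.base z' = y → z ∈ closure {z'} → z' = z) →
      ringKrullDim (X.presheaf.stalk z) = ringKrullDim (Y.presheaf.stalk y)) :
    ((fun Z : Set ↥(f.fiber y) => topologicalKrullDim ↥Z) '' irreducibleComponents ↥(f.fiber y)) ⊆
      ((fun Z : Set ↥(f.fiber (genericPoint Y)) => topologicalKrullDim ↥Z) ''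
        irreducibleComponents ↥(f.fiber (genericPoint Y))) ∧
      topologicalKrullDim ↥(f.fiber y) ≤ topologicalKrullDim ↥(f.fiber (genericPoint Y)) := by
  have part1 : ((fun Z : Set ↥(f.fiber y) => topologicalKrullDim ↥Z) ''
      irreducibleComponents ↥(f.fiber y)) ⊆
      ((fun Z : Set ↥(f.fiber (genericPoint Y)) => topologicalKrullDim ↥Z) ''
        irreducibleComponents ↥(f.fiber (genericPoint Y))) := by
    rintro d ⟨ZF, hZF, rfl⟩
    obtain ⟨ζF, hζF⟩ := QuasiSober.sober hZF.1 (isClosed_of_mem_irreducibleComponents ZF hZF)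
    obtain rfl : closure ({ζF} : Set (f.fiber y)) = ZF := hζF.def
    have hζFmax : ∀ w : f.fiber y, w ⤳ ζF → w = ζF :=
      (AffPts.closure_mem_irreducibleComponents_iff ζF).mp hZF
    set ζ : X := f.fiberι y ζF with hζ
    have hfζ : f ζ = y := by
      have : ζ ∈ Set.range (f.fiberι y) := ⟨ζF, rfl⟩
      rw [f.range_fiberι] at this
      exact this
    have hζmax := fiberι_max_of_max f y ζF hζFmax
    have hdimZ := dim_closure_fibre_point f y ζ hfζ ζF rfl
    have hG : ringKrullDim ((f.fiber (f ζ)).presheaf.stalk (f.asFiber ζ)) = 0 := by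
      rw [FibreOrder.ringKrullDim_fiber_stalk, (G_eq_zero_iff f ζ).mpr hζmax]
      rfl
    have hb' : ringKrullDim (X.presheaf.stalk ζ) = ringKrullDim (Y.presheaf.stalk (f ζ)) := by
      rw [stalk_dim_congr hfζ]
      exact hb ζ hfζ (fun z' hz' hcl =>
        hζmax z' (hz'.trans hfζ.symm) (specializes_iff_mem_closure.mpr hcl))
    obtain ⟨ξ, hξζ, hξmax, hfξ, hdim⟩ := b_imp_c_point f ζ hG hb'
    rw [fibreDimAt_of_fibre_max f ζ hζmax] at hdim
    have hdim2 : topologicalKrullDim ↥(closure ({ξ} : Set X) ∩ f ⁻¹' {genericPoint Y}) =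
        ((tr f ξ : ℕ) : WithBot ℕ∞) := by
      rw [← hfξ]
      exact dim_closure_inter_fibre f ξ
    obtain ⟨ξF, hξF⟩ := exists_fibre_point f ξ (genericPoint Y) hfξ
    have hξFmax : ∀ w : f.fiber (genericPoint Y), w ⤳ ξF → w = ξF :=
      max_of_fiberι_max f (genericPoint Y) ξF (by rw [hξF]; exact hξmax)
    refine ⟨closure {ξF}, (AffPts.closure_mem_irreducibleComponents_iff ξF).mpr hξFmax, ?_⟩
    show topologicalKrullDim ↥(closure ({ξF} : Set (f.fiber (genericPoint Y)))) =
      topologicalKrullDim ↥(closure ({ζF} : Set (f.fiber y)))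
    rw [hdimZ, dim_closure_fibre_point f (genericPoint Y) ξ hfξ ξF hξF, ← hdim2, hdim]
  refine ⟨part1, ?_⟩
  apply dim_le_of_components
  intro W hW
  obtain ⟨W', hW', hdim⟩ := part1 ⟨W, hW, rfl⟩
  have hdim' : topologicalKrullDim ↥W' = topologicalKrullDim ↥W := hdim
  rw [← hdim']
  exact topologicalKrullDim_subspace_le _ W'

end Groth.Agent.Lib.Helper24.SubDim
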